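import Cfsg.Agent.H159.DPi.Geo

/-!
# S4247 (A'): the Levi subgroup `SL_{n-1}(F)` in the stabiliser of a point or a hyperplane (helper159)
-/

set_option autoImplicit false
set_option linter.unusedSectionVars false

namespace Cfsg.Agent.H159.DPi

open Module Matrix Cfsg Cfsg.Agent.H141.Rg Cfsg.Agent.H262.Rx Cfsg.Agent.H900.PQR

variable {F : Type} [Field F] [Fintype F] {m : ℕ}

theorem blk_last' (A : Matrix.SpecialLinearGroup (Fin m) F) (i : Fin m) :
    (blk m A).1 (Fin.last m) (Fin.castSucc i) = 0 := by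
  show Matrix.reindex _ _ (Matrix.fromBlocks A.1 0 0 1) _ _ = _
  have h1 : (finSumFinEquiv.symm (Fin.castSucc i) : Fin m ⊕ Fin 1) = Sum.inl i := by
    rw [Equiv.symm_apply_eq]; rfl
  have h2 : (finSumFinEquiv.symm (Fin.last m) : Fin m ⊕ Fin 1) = Sum.inr 0 := by
    rw [Equiv.symm_apply_eq]; rfl
  rw [Matrix.reindex_apply, Matrix.submatrix_apply, h1, h2, Matrix.fromBlocks_apply₂₁, Matrix.zero_apply]

theorem map_eq_of_le' {n : ℕ} {g : Matrix.SpecialLinearGroup (Fin n) F} {W : Submodule F (Fin n → F)}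
    (h : W.map (slAct n F g) ≤ W) : W.map (slAct n F g) = W :=
  Submodule.eq_of_le_of_finrank_eq h (finrank_map_slAct g W)

/-- the standard point or hyperplane -/
theorem exists_std {k : ℕ} (hk : k = 1 ∨ k = m) : ∃ W : Submodule F (Fin (m + 1) → F), finrank F W = k ∧
    ∀ A : Matrix.SpecialLinearGroup (Fin m) F, blk m A ∈ stb W := by
  rcases hk with rfl | rfl
  · refine ⟨Submodule.span F {Pi.single (Fin.last m) 1}, ?_, fun A => ?_⟩
    · rw [finrank_span_singleton]
      intro h
      have := congrFun h (Fin.last m)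
      rw [Pi.single_eq_same] at this
      exact one_ne_zero this
    · rw [mem_stb]
      apply map_eq_of_le'
      rw [Submodule.map_span_le]
      intro x hx
      rw [Set.mem_singleton_iff] at hx
      subst hx
      have h1 : slAct (m + 1) F (blk m A) (Pi.single (Fin.last m) 1) = Pi.single (Fin.last m) 1 := by
        rw [slAct_apply, Matrix.mulVec_single_one]
        funext i
        refine Fin.lastCases ?_ (fun i => ?_) i
        · rw [Matrix.col_apply, Pi.single_eq_same]
          exact blk_last_last m A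
        · rw [Matrix.col_apply, Pi.single_eq_of_ne (Fin.castSucc_lt_last i).ne]
          exact blk_last m A i
      rw [h1]
      exact Submodule.mem_span_singleton_self _
  · refine ⟨LinearMap.ker (LinearMap.proj (Fin.last k) : (Fin (k + 1) → F) →ₗ[F] F), ?_, fun A => ?_⟩
    · have h1 := LinearMap.finrank_range_add_finrank_ker (LinearMap.proj (Fin.last k) : (Fin (k + 1) → F) →ₗ[F] F)
      have h2 : LinearMap.range (LinearMap.proj (Fin.last k) : (Fin (k + 1) → F) →ₗ[F] F) = ⊤ :=
        LinearMap.range_eq_top.2 (LinearMap.proj_surjective _)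
      rw [h2, finrank_top, finrank_self, finrank_fin_fun] at h1
      omega
    · rw [mem_stb]
      apply map_eq_of_le'
      rintro _ ⟨v, hv, rfl⟩
      have hv' : v (Fin.last k) = 0 := hv
      show (slAct (k + 1) F (blk k A) v) (Fin.last k) = 0
      rw [slAct_apply, Matrix.mulVec, dotProduct, Fin.sum_univ_castSucc]
      rw [hv', mul_zero, add_zero]
      refine Finset.sum_eq_zero fun i _ => ?_
      have := blk_last' A i
      rw [this, zero_mul]

/-- `SL_m(F)` in the stabiliser -/
theorem exists_blk {W : Submodule F (Fin (m + 1) → F)} (hk : finrank F W = 1 ∨ finrank F W = m) (hm : 0 < m) :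
    ∃ φ : Matrix.SpecialLinearGroup (Fin m) F →* Matrix.SpecialLinearGroup (Fin (m + 1)) F,
      Function.Injective φ ∧ ∀ A, φ A ∈ stb W := by
  obtain ⟨W₀, hW₀, h1⟩ := exists_std (F := F) hk
  obtain ⟨g, hg⟩ := exists_map (W := W₀) (W' := W) hW₀ (by omega)
  refine ⟨(MulAut.conj g).toMonoidHom.comp (blk m), ?_, fun A => ?_⟩
  · exact (MulAut.conj g).injective.comp (blk_injective m)
  · let _ := actS (m + 1) F
    show (g * blk m A * g⁻¹) • W = W
    have h2 : g • W₀ = W := hg
    have h3 : blk m A • W₀ = W₀ := h1 A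
    rw [← h2, mul_smul, mul_smul, inv_smul_smul, h3]

theorem simple_of {q : ℕ} (hF : Fintype.card F = q) (hm : 2 ≤ m) (h : ¬ (m = 2 ∧ (q = 2 ∨ q = 3))) :
    IsSimpleGroup (ProjectiveSpecialLinearGroup (Fin m) F) := by
  rcases Nat.eq_or_lt_of_le hm with rfl | hm
  · have hq : 1 < Fintype.card F := Fintype.one_lt_card
    exact Matrix.ProjectiveSpecialLinearGroup.rank_two_simple (by
      rw [Nat.card_eq_fintype_card]
      omega)
  · exact S0249.result m hm

/-- **the Levi argument** -/
theorem levi {r f : ℕ} (hr : r.Prime) (hf : 0 < f) (hF : Fintype.card F = r ^ f) (hm : 2 ≤ m) (hm3 : m ≠ 3)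
    {W : Submodule F (Fin (m + 1) → F)} (hk : finrank F W = 1 ∨ finrank F W = m)
    {H : Subgroup (Matrix.SpecialLinearGroup (Fin (m + 1)) F)} (hidx : H.relIndex (stb W) ≤ m + 1)
    (hp : ¬ (m + 1) ∣ Nat.card H) (hord : (m + 1) ∣ Nat.card (ProjectiveSpecialLinearGroup (Fin m) F)) :
    m = 2 ∧ (r ^ f = 2 ∨ r ^ f = 3) := by
  by_contra hcon
  have hs : IsSimpleGroup (ProjectiveSpecialLinearGroup (Fin m) F) := simple_of hF hm hcon
  obtain ⟨φ, hφ, hφW⟩ := exists_blk hk (by omega)
  let mk : Matrix.SpecialLinearGroup (Fin m) F →* ProjectiveSpecialLinearGroup (Fin m) F :=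
    QuotientGroup.mk' (Subgroup.center (Matrix.SpecialLinearGroup (Fin m) F))
  have hmk : Function.Surjective mk := QuotientGroup.mk'_surjective _
  have h1 : (H.comap φ).index ≤ m + 1 := by
    rw [Subgroup.index_comap]
    refine (Subgroup.relIndex_le_of_le_right ?_ ?_).trans hidx
    · rintro _ ⟨A, rfl⟩
      exact hφW A
    · exact Subgroup.index_ne_zero_of_finite
  have h2 : ((H.comap φ).map mk).index ≤ m + 1 :=
    (Nat.le_of_dvd (Nat.pos_of_ne_zero Subgroup.index_ne_zero_of_finite) (Subgroup.index_map_dvd _ hmk)).trans h1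
  have h3 : Nat.card ((H.comap φ).map mk) ∣ Nat.card H :=
    (Subgroup.card_map_dvd _ _).trans (Subgroup.card_comap_dvd_of_injective _ _ hφ)
  have h4 : (H.comap φ).map mk ≠ ⊤ := by
    intro h0
    rw [h0, Subgroup.card_top] at h3
    exact hp (hord.trans h3)
  have h5 := (SmallSimple.SylowCount.card_dvd_factorial_index _ h4).trans (Nat.factorial_dvd_factorial h2)
  have h6 := H277.ClsPsl.card_psl hF hm
  have h7 : (r ^ f) ^ (m * (m - 1) / 2) ∣ Nat.card (ProjectiveSpecialLinearGroup (Fin m) F) := by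
    have h8 : Nat.Coprime ((r ^ f) ^ (m * (m - 1) / 2)) (Nat.gcd m (r ^ f - 1)) := by
      apply Nat.Coprime.pow_left
      apply Nat.Coprime.coprime_dvd_right (Nat.gcd_dvd_right _ _)
      have h9 : 1 ≤ r ^ f := Nat.one_le_pow _ _ hr.pos
      rw [Nat.coprime_self_sub_right h9]
      exact Nat.coprime_one_right _
    refine h8.dvd_of_dvd_mul_left ?_
    rw [h6]
    exact dvd_mul_right _ _
  exact hcon (num_fact hr hf hm hm3 (h7.trans h5))

theorem dvd_card_psl {q : ℕ} (hF : Fintype.card F = q) (hm : 2 ≤ m) (hp : (m + 1).Prime)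
    (h : m + 1 ∣ q ^ m - 1) (h1 : ¬ m + 1 ∣ q - 1) :
    (m + 1) ∣ Nat.card (ProjectiveSpecialLinearGroup (Fin m) F) := by
  have h6 := H277.ClsPsl.card_psl hF hm
  have h2 : m + 1 ∣ Nat.gcd m (q - 1) * Nat.card (ProjectiveSpecialLinearGroup (Fin m) F) := by
    rw [h6]
    apply Dvd.dvd.mul_left
    refine h.trans ?_
    have h3 : q ^ m - 1 = q ^ ((m - 2) + 2) - 1 := by rw [Nat.sub_add_cancel hm]
    rw [h3]
    exact Finset.dvd_prod_of_mem (fun i => q ^ (i + 2) - 1) (Finset.mem_range.2 (by omega))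
  rcases (Nat.Prime.dvd_mul hp).1 h2 with h3 | h3
  · exact absurd (h3.trans (Nat.gcd_dvd_right _ _)) h1
  · exact h3

end Cfsg.Agent.H159.DPi
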