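import Cfsg.Agent.H159.DPi.Core2
import Cfsg.Agent.H159.DPi.Geo2
import Cfsg.Agent.H159.DPi.CfgT
import Cfsg.Agent.H567.DichLie
import Cfsg.Agent.H74.PslF

/-!
# S4247 (A'): the exact factorisation (helper159)
-/

set_option autoImplicit false
set_option linter.unusedSectionVars false

namespace Cfsg.Agent.H159.DPi

open Module Matrix Cfsg Cfsg.Agent.H141.Rg Cfsg.Agent.H262.Rx Cfsg.Agent.H248.Ovg Cfsg.Agent.H817.DPi

variable {F : Type} [Field F] [Fintype F] {n : ℕ}

theorem eq_one_of_slAct {g : Matrix.SpecialLinearGroup (Fin n) F} (h : ∀ v, slAct n F g v = v) : g = 1 := by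
  apply Subtype.ext
  apply Matrix.ext_of_mulVec_single
  intro i
  have h1 := h (Pi.single i 1)
  rw [slAct_apply] at h1
  rw [h1]
  show _ = (1 : Matrix (Fin n) (Fin n) F) *ᵥ _
  rw [Matrix.one_mulVec]

/-- the fixed space -/
noncomputable def fixV (V : Subgroup (Matrix.SpecialLinearGroup (Fin n) F)) : Submodule F (Fin n → F) where
  carrier := {v | ∀ x ∈ V, slAct n F x v = v}
  add_mem' := by
    intro u v hu hv x hx
    rw [map_add, hu x hx, hv x hx]
  zero_mem' := fun x _ => map_zero _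
  smul_mem' := by
    intro c v hv x hx
    rw [map_smul, hv x hx]

theorem mem_fixV {V : Subgroup (Matrix.SpecialLinearGroup (Fin n) F)} {v : Fin n → F} :
    v ∈ fixV V ↔ ∀ x ∈ V, slAct n F x v = v := Iff.rfl

theorem fixV_ne_bot {r : ℕ} [Fact r.Prime] [CharP F r] (hn : 0 < n) {V : Subgroup (Matrix.SpecialLinearGroup (Fin n) F)}
    (hV : IsPGroup r V) : fixV V ≠ ⊥ := by
  have : Nonempty (Fin n) := ⟨⟨0, hn⟩⟩
  have hpF : ((r : ℕ) : F) = 0 := CharP.cast_eq_zero F r
  let ρ : V →* Module.End F (Fin n → F) := (slAct n F).comp V.subtype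
  obtain ⟨u, hu, h1⟩ := H898.PDLin.exists_fixed hV ρ hpF
  intro h2
  have h3 : u ∈ fixV V := fun x hx => h1 ⟨x, hx⟩
  rw [h2, Submodule.mem_bot] at h3
  exact hu h3

theorem fixV_ne_top {V : Subgroup (Matrix.SpecialLinearGroup (Fin n) F)} (hV0 : V ≠ ⊥) : fixV V ≠ ⊤ := by
  intro h1
  apply hV0
  rw [eq_bot_iff]
  intro x hx
  rw [Subgroup.mem_bot]
  apply eq_one_of_slAct
  intro v
  have h2 : v ∈ fixV V := by rw [h1]; trivial
  exact h2 x hx

/-- a proper subgroup of index prime to the characteristic is reducible -/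
theorem exists_sub {r : ℕ} [Fact r.Prime] [CharP F r] (hn : 0 < n) {H : Subgroup (Matrix.SpecialLinearGroup (Fin n) F)}
    (hD : Dich r (Matrix.SpecialLinearGroup (Fin n) F)) (hr : ¬ r ∣ H.index) (hH : H ≠ ⊤) :
    ∃ W : Submodule F (Fin n → F), W ≠ ⊥ ∧ W ≠ ⊤ ∧ H ≤ stb W := by
  have h0 : pCore r ↥H ≠ ⊥ := fun h0 => hH (hD.eq_top H h0 hr)
  have hN : (pCore r ↥H).Normal := Lib.Cores.pCore_normal r
  let V : Subgroup (Matrix.SpecialLinearGroup (Fin n) F) := (pCore r ↥H).map H.subtype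
  have hV0 : V ≠ ⊥ := fun h1 => h0 ((Subgroup.map_eq_bot_iff_of_injective _ H.subtype_injective).1 h1)
  have hVp : IsPGroup r V := (Lib.Cores.pCore_isPGroup r).map _
  have hHV : ∀ g ∈ H, ∀ x ∈ V, g * x * g⁻¹ ∈ V := by
    rintro g hg _ ⟨x, hx, rfl⟩
    have h1 : ∀ y : ↥H, y * x * y⁻¹ ∈ pCore r ↥H := fun y => hN.conj_mem x hx y
    refine Subgroup.mem_map.2 ⟨_, h1 ⟨g, hg⟩, ?_⟩
    rw [map_mul, map_mul, map_inv]
    simp only [Subgroup.subtype_apply]
  refine ⟨fixV V, fixV_ne_bot hn hVp, fixV_ne_top hV0, ?_⟩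
  · intro g hg
    rw [mem_stb]
    apply map_eq_of_le'
    rintro _ ⟨w, hw, rfl⟩
    intro x hx
    have h1 : g⁻¹ * x * g ∈ V := by
      have := hHV g⁻¹ (H.inv_mem hg) x hx
      rwa [inv_inv] at this
    have h2 : slAct n F (g⁻¹ * x * g) w = w := hw _ h1
    have h3 : x * g = g * (g⁻¹ * x * g) := by group
    calc slAct n F x (slAct n F g w) = slAct n F (x * g) w := by rw [map_mul]; rfl
      _ = slAct n F g (slAct n F (g⁻¹ * x * g) w) := by rw [h3, map_mul]; rfl
      _ = slAct n F g w := by rw [h2]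

/-- **the arithmetic** -/
theorem Hy.main {r f : ℕ} {π : Set ℕ} {P : Subgroup (Matrix.SpecialLinearGroup (Fin n) F)}
    {K B : Subgroup (MulAut (Matrix.SpecialLinearGroup (Fin n) F))} (h : Hy n r f F P) (hc : Cfg π P K B)
    (hrπ : r ∉ π) (hnπ : n ∈ π) (ho : orderOf ((Fintype.card F : ℕ) : ZMod n) = n - 1) :
    (n = 3 ∨ n = 5) ∧ Fintype.card F = 2 := by
  have := Fact.mk h.hr
  have := h.char
  have hn3 := h.three
  have hn4 : n ≠ 4 := by
    rintro rfl
    exact absurd h.prime (by norm_num)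
  have hf0 : 0 < f := h.oddf.pos
  have hq2 : 2 ≤ Fintype.card F := Fintype.one_lt_card
  set N := (Fintype.card F ^ n - 1) / (Fintype.card F - 1) with hN
  have hN0 : 0 < N := by
    have := geom_ge hq2 hn3
    have h1 : 0 < Fintype.card F ^ (n - 1) := by positivity
    omega
  set H : Subgroup (Matrix.SpecialLinearGroup (Fin n) F) := B.comap MulAut.conj with hH
  have hHtop : H ≠ ⊤ := Cfg.ne_top hc h.cen
  -- `K = 1`
  have hK : K = ⊥ := by
    by_contra hK
    obtain ⟨k, hk, hk1⟩ := (Subgroup.ne_bot_iff_exists_ne_one).1 hK |>.elim fun k hk =>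
      (⟨k.1, k.2, fun h0 => hk (Subtype.ext h0)⟩ : ∃ k, k ∈ K ∧ k ≠ 1)
    obtain ⟨hf3, Q, hQ1, hQ, hd⟩ := h.card_P_of_ne hc.fix hk hk1
    have h1 : H.index ≤ _ := Cfg.index_le hc
    have h2 : N ≤ H.index := H74.Psl.min_index rfl hn3 (fun h0 => hn4 h0.1) _ hHtop
    have h3 : Nat.card P ≤ n * (Q - 1) := Nat.le_of_dvd (Nat.mul_pos (by omega) (by omega)) hd
    have h4 := h.card_K hc.fix
    have h5 := num_K hn3 hn4 hf3 (q := Fintype.card F) (by
      rw [h.card]
      exact Nat.pow_le_pow_left h.hr.two_le f) hQ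
    have h6 := Nat.mul_le_mul h3 h4
    omega
  have hidx : H.index = Nat.card P := Cfg.index_of_bot hc h.cen hK
  have hPle : Nat.card P ≤ n * N := Nat.le_of_dvd (Nat.mul_pos (by omega) hN0) h.card_P
  have hrH : ¬ r ∣ H.index := by
    rw [hidx]
    intro h1
    exact hrπ (hc.hall.1 r h.hr h1)
  have hD : Dich r (Matrix.SpecialLinearGroup (Fin n) F) := H567.DichLie.dich_of_lie
    (Or.inl ⟨F, inferInstance, inferInstance, h.char, n, by omega, by omega, ⟨toPSL h.cen⟩⟩)
  obtain ⟨W, hW0, hW1, hHW⟩ := exists_sub (by omega) hD hrH hHtop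
  have hk0 : 0 < finrank F W := Submodule.one_le_finrank_iff.2 hW0
  have hkn : finrank F W < n := by
    have := Submodule.finrank_lt hW1
    rwa [finrank_fin_fun] at this
  have h1 : H.relIndex (stb W) * (stb W).index = H.index := Subgroup.relIndex_mul_index hHW
  have h2 : (stb W).index ≤ Nat.card P := by
    rw [← hidx, ← h1]
    exact Nat.le_mul_of_pos_left _ (Nat.pos_of_ne_zero Subgroup.index_ne_zero_of_finite)
  by_cases hk : 2 ≤ finrank F W ∧ finrank F W + 2 ≤ n
  · have h3 := card_ge (F := F) hkn.le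
    rw [← index_stb hk0] at h3
    have h4 := num_k h.prime hq2 hk.1 hk.2 (h3.trans (h2.trans hPle))
    exact ⟨Or.inr h4.1, h4.2⟩
  · obtain ⟨m, rfl⟩ : ∃ m, n = m + 1 := ⟨n - 1, by omega⟩
    have hk' : finrank F W = 1 ∨ finrank F W = m := by omega
    have h3 : (stb W).index = N := by
      rw [index_stb hk0]
      exact card_one (by omega) (by simpa using hk')
    have h4 : H.relIndex (stb W) ≤ m + 1 := by
      rw [h3, hidx] at h1
      rw [← h1] at hPle
      exact Nat.le_of_mul_le_mul_right hPle hN0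
    have hord : m + 1 ∣ Fintype.card F ^ m - 1 := by
      rw [dvd_pow_sub_one_iff_orderOf (by omega), ho]
      simp
    have h5 := levi h.hr hf0 h.card (by omega) (by omega) hk' h4
      (fun hd => Cfg.pi' hc h.cen _ h.prime hnπ hd)
      (dvd_card_psl rfl (by omega) h.prime hord (not_dvd_sub_one hn3 (by omega) ho))
    obtain ⟨rfl, h6⟩ := h5
    rw [← h.card] at h6
    refine ⟨Or.inl rfl, ?_⟩
    rcases h6 with h6 | h6
    · exact h6
    · rw [h6] at hord
      exact absurd hord (by norm_num)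

end Cfsg.Agent.H159.DPi
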