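import Mathlib
import Cfsg.Agent.H892.EP.Cusp
import Cfsg.Agent.H331.BFChev

/-!
# S4247 (A'): the centraliser of an irreducible matrix is a field (helper159)
-/

set_option autoImplicit false
set_option linter.unusedSectionVars false

namespace Cfsg.Agent.H159.DPi

/-- the fixed points of an automorphism of a finite field -/
theorem card_fix {E : Type*} [Field E] [Finite E] (τ : RingAut E) :
    Nat.card {x : E // τ x = x} ^ orderOf τ = Nat.card E := by
  classical
  have hfin : Finite (RingAut E) := Finite.of_injective (fun (g : E ≃+* E) => (g : E → E)) DFunLike.coe_injective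
  let G : Subgroup (RingAut E) := Subgroup.zpowers τ
  have := Fintype.ofFinite G
  have h1 := FixedPoints.finrank_eq_card G E
  have h2 := Module.natCard_eq_pow_finrank (K := FixedPoints.subfield G E) (V := E)
  rw [h1] at h2
  rw [h2, ← Nat.card_eq_fintype_card, Nat.card_zpowers]
  congr 1
  refine Nat.card_congr (Equiv.subtypeEquivRight fun x => ?_)
  constructor
  · intro hx g
    have h3 : Subgroup.zpowers τ ≤ MulAction.stabilizer (RingAut E) x := by
      rw [Subgroup.zpowers_le]
      exact hx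
    exact h3 g.2
  · intro hx
    exact hx ⟨τ, Subgroup.mem_zpowers τ⟩

section Mat

open Matrix

variable {F : Type} [Field F] [Fintype F] {n : ℕ}

/-- no invariant subspaces -/
def Irr (z : Matrix (Fin n) (Fin n) F) : Prop :=
  ∀ W : Submodule F (Fin n → F), W ≤ W.comap (Matrix.toLin' z) → W ≠ ⊥ → W = ⊤

/-- the polynomials in `z` act transitively -/
theorem Irr.exists_mulVec {z : Matrix (Fin n) (Fin n) F} (h : Irr z) {v : Fin n → F} (hv : v ≠ 0) (w : Fin n → F) :
    ∃ c ∈ Algebra.adjoin F {z}, c *ᵥ v = w := by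
  let W : Submodule F (Fin n → F) :=
    (Subalgebra.toSubmodule (Algebra.adjoin F {z})).map
      ((LinearMap.applyₗ v).comp (Matrix.toLin' : Matrix (Fin n) (Fin n) F ≃ₗ[F] _).toLinearMap)
  have hW : ∀ w, w ∈ W ↔ ∃ c ∈ Algebra.adjoin F {z}, c *ᵥ v = w := by
    intro w
    constructor
    · rintro ⟨c, hc, rfl⟩
      exact ⟨c, hc, rfl⟩
    · rintro ⟨c, hc, rfl⟩
      exact ⟨c, hc, rfl⟩
  have h1 : W = ⊤ := by
    refine h W ?_ ?_
    · intro x hx
      obtain ⟨c, hc, rfl⟩ := (hW x).1 hx
      show Matrix.toLin' z (c *ᵥ v) ∈ W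
      rw [hW]
      refine ⟨z * c, Subalgebra.mul_mem _ (Algebra.self_mem_adjoin_singleton F z) hc, ?_⟩
      rw [Matrix.toLin'_apply, Matrix.mulVec_mulVec]
    · intro h0
      apply hv
      have h2 : v ∈ W := (hW v).2 ⟨1, Subalgebra.one_mem _, Matrix.one_mulVec v⟩
      rw [h0] at h2
      exact (Submodule.mem_bot F).1 h2
  have h2 : w ∈ W := by rw [h1]; trivial
  exact (hW w).1 h2

/-- a matrix commuting with `z` is zero or has no kernel -/
theorem Irr.eq_zero_of_mulVec {z : Matrix (Fin n) (Fin n) F} (h : Irr z) {x : Matrix (Fin n) (Fin n) F}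
    (hx : x * z = z * x) {v : Fin n → F} (hv : v ≠ 0) (h0 : x *ᵥ v = 0) : x = 0 := by
  have h1 : LinearMap.ker (Matrix.toLin' x) = ⊤ := by
    refine h _ ?_ ?_
    · intro w hw
      rw [LinearMap.mem_ker, Matrix.toLin'_apply] at hw
      rw [Submodule.mem_comap, LinearMap.mem_ker, Matrix.toLin'_apply, Matrix.toLin'_apply, Matrix.mulVec_mulVec, hx,
        ← Matrix.mulVec_mulVec, hw, Matrix.mulVec_zero]
    · intro h1
      apply hv
      have h2 : v ∈ LinearMap.ker (Matrix.toLin' x) := by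
        rw [LinearMap.mem_ker, Matrix.toLin'_apply]
        exact h0
      rw [h1] at h2
      exact (Submodule.mem_bot F).1 h2
  apply Matrix.toLin'.injective
  rw [map_zero]
  exact LinearMap.ker_eq_top.1 h1

theorem comm_of_mem_adjoin {z x c : Matrix (Fin n) (Fin n) F} (hx : x * z = z * x) (hc : c ∈ Algebra.adjoin F {z}) :
    x * c = c * x := by
  have h1 : Algebra.adjoin F {z} ≤ Subalgebra.centralizer F {x} := by
    rw [Algebra.adjoin_le_iff, Set.singleton_subset_iff, SetLike.mem_coe, Subalgebra.mem_centralizer_iff]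
    intro y hy
    rw [Set.mem_singleton_iff] at hy
    rw [hy, hx]
  have h2 := (Subalgebra.mem_centralizer_iff F).1 (h1 hc) x rfl
  exact h2

/-- the centraliser consists of the polynomials -/
theorem Irr.mem_adjoin {z : Matrix (Fin n) (Fin n) F} (hn : 0 < n) (h : Irr z) {x : Matrix (Fin n) (Fin n) F}
    (hx : x * z = z * x) : x ∈ Algebra.adjoin F {z} := by
  have hv : (fun _ => 1 : Fin n → F) ≠ 0 := fun h0 => one_ne_zero (congrFun h0 ⟨0, hn⟩)
  obtain ⟨c, hc, h1⟩ := h.exists_mulVec hv (x *ᵥ fun _ => 1)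
  have hcz : c * z = z * c := (comm_of_mem_adjoin rfl hc).symm
  have h2 : x - c = 0 := h.eq_zero_of_mulVec (by rw [sub_mul, mul_sub, hx, hcz]) hv
    (by rw [Matrix.sub_mulVec, h1, sub_self])
  rw [sub_eq_zero.1 h2]
  exact hc

/-- the centraliser as a field `E` -/
structure FZ (z : Matrix (Fin n) (Fin n) F) {E : Type} [Field E] (ψ : E →+* Matrix (Fin n) (Fin n) F) : Prop where
  irr : Irr z
  inj : Function.Injective ψ
  card : Nat.card E = Fintype.card F ^ n
  mem : ∀ x, x * z = z * x → ∃ a, ψ a = x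
  comm : ∀ a, ψ a * z = z * ψ a

theorem exists_field {z : Matrix (Fin n) (Fin n) F} (hn : 0 < n) (h : Irr z) :
    ∃ (E : Type) (_ : Field E) (_ : Finite E) (ψ : E →+* Matrix (Fin n) (Fin n) F), FZ z ψ := by
  classical
  let C : Subalgebra F (Matrix (Fin n) (Fin n) F) := Subalgebra.centralizer F {z}
  have hC : ∀ x, x ∈ C ↔ x * z = z * x := by
    intro x
    rw [Subalgebra.mem_centralizer_iff]
    exact ⟨fun h => (h z rfl).symm, fun h y hy => by rw [Set.mem_singleton_iff] at hy; rw [hy, h]⟩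
  have : Nontrivial (Matrix (Fin n) (Fin n) F) := by
    have : Nonempty (Fin n) := ⟨⟨0, hn⟩⟩
    infer_instance
  have hv : (fun _ => 1 : Fin n → F) ≠ 0 := fun h0 => one_ne_zero (congrFun h0 ⟨0, hn⟩)
  have hF : IsField C := by
    refine ⟨⟨0, 1, zero_ne_one⟩, ?_, ?_⟩
    · intro x y
      apply Subtype.ext
      exact comm_of_mem_adjoin ((hC _).1 x.2) (h.mem_adjoin hn ((hC _).1 y.2))
    · intro x hx
      have hx0 : (x : Matrix (Fin n) (Fin n) F) ≠ 0 := fun h0 => hx (Subtype.ext h0)
      have h1 : IsUnit (x : Matrix (Fin n) (Fin n) F) := by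
        rw [← Matrix.mulVec_injective_iff_isUnit]
        have h0 : Function.Injective (Matrix.mulVecLin (x : Matrix (Fin n) (Fin n) F)) := by
          rw [injective_iff_map_eq_zero]
          intro v h2
          by_contra hv
          exact hx0 (h.eq_zero_of_mulVec ((hC _).1 x.2) hv h2)
        exact h0
      obtain ⟨u, hu⟩ := h1
      have h2 : (u⁻¹ : (Matrix (Fin n) (Fin n) F)ˣ).1 * z = z * (u⁻¹ : (Matrix (Fin n) (Fin n) F)ˣ).1 := by
        have h3 : u.1 * z = z * u.1 := by rw [hu]; exact (hC _).1 x.2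
        have h4 : Commute u.1 z := h3
        exact h4.units_inv_left
      refine ⟨⟨(u⁻¹ : (Matrix (Fin n) (Fin n) F)ˣ).1, (hC _).2 h2⟩, Subtype.ext ?_⟩
      show (x : Matrix (Fin n) (Fin n) F) * (u⁻¹ : (Matrix (Fin n) (Fin n) F)ˣ).1 = 1
      rw [← hu, Units.mul_inv]
  let _ : Field C := hF.toField
  refine ⟨C, hF.toField, inferInstance, C.toSubring.subtype, ?_⟩
  refine ⟨h, Subtype.val_injective, ?_, fun x hx => ⟨⟨x, (hC x).2 hx⟩, rfl⟩, fun a => (hC _).1 a.2⟩
  have h1 : Function.Bijective (fun c : C => (c : Matrix (Fin n) (Fin n) F) *ᵥ (fun _ => 1 : Fin n → F)) := by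
    constructor
    · intro a b hab
      have h2 : (a : Matrix (Fin n) (Fin n) F) - b = 0 := by
        refine h.eq_zero_of_mulVec ?_ hv ?_
        · rw [sub_mul, mul_sub, (hC _).1 a.2, (hC _).1 b.2]
        · rw [Matrix.sub_mulVec, sub_eq_zero]
          exact hab
      exact Subtype.ext (sub_eq_zero.1 h2)
    · intro w
      obtain ⟨c, hc, h1⟩ := h.exists_mulVec hv w
      exact ⟨⟨c, (hC c).2 (comm_of_mem_adjoin rfl hc).symm⟩, h1⟩
  rw [Nat.card_congr (Equiv.ofBijective _ h1), Nat.card_fun, Nat.card_eq_fintype_card, Nat.card_eq_fintype_card,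
    Fintype.card_fin]

/-- elements of prime order `t` with `ord_t(q) = n` -/
theorem irr_of_pow {r t : ℕ} [Fact r.Prime] [CharP F r] [Fact t.Prime] (htr : t ≠ r)
    (h2 : ∀ i, 0 < i → i < n → ¬ t ∣ Fintype.card F ^ i - 1) {z : Matrix (Fin n) (Fin n) F} (hz : z ^ t = 1)
    (hz1 : z ≠ 1) : Irr z := by
  intro W hW h0
  refine Cfsg.Agent.H892.EP.invariant_eq_top (T := Matrix.toLin' z) (p := t) (r := r) (d := n) htr
    (by rwa [Nat.card_eq_fintype_card]) (by rw [Module.finrank_fin_fun]) ?_ ?_ W hW h0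
  · rw [← Matrix.toLin'_pow, hz, Matrix.toLin'_one]
    rfl
  · intro h
    apply hz1
    apply Matrix.toLin'.injective
    rw [h, Matrix.toLin'_one]
    rfl

variable {z : Matrix (Fin n) (Fin n) F} {E : Type} [Field E] [Finite E] {ψ : E →+* Matrix (Fin n) (Fin n) F}

theorem FZ.exists_tau (D : FZ z ψ) (κ : Matrix (Fin n) (Fin n) F → Matrix (Fin n) (Fin n) F)
    (hadd : ∀ x y, κ (x + y) = κ x + κ y) (h1 : κ 1 = 1)
    (hmul : ∀ x y, x * y = y * x → κ (x * y) = κ x * κ y)
    (hz : ∀ x, x * z = z * x → κ x * z = z * κ x) : ∃ τ : RingAut E, ∀ a, ψ (τ a) = κ (ψ a) := by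
  have h2 : ∀ a : E, ∃ b : E, ψ b = κ (ψ a) := fun a => D.mem _ (hz _ (D.comm a))
  choose f hf using h2
  have h0 : κ 0 = 0 := by
    have h3 := hadd 0 0
    rw [add_zero] at h3
    exact left_eq_add.1 h3
  let τ : E →+* E :=
    { toFun := f
      map_one' := D.inj (by rw [hf, map_one, h1])
      map_zero' := D.inj (by rw [hf, map_zero, h0])
      map_add' := fun a b => D.inj (by rw [hf, map_add, map_add, hadd, hf, hf])
      map_mul' := fun a b => D.inj (by
        rw [hf, map_mul, map_mul, hf, hf, hmul]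
        rw [← map_mul, ← map_mul, mul_comm]) }
  have h3 : Function.Bijective τ := Finite.injective_iff_bijective.1 τ.injective
  exact ⟨RingEquiv.ofBijective τ h3, fun a => hf a⟩

theorem FZ.exists_iota (D : FZ z ψ) : ∃ ι : F →+* E, ∀ c, ψ (ι c) = algebraMap F (Matrix (Fin n) (Fin n) F) c := by
  have h2 : ∀ c : F, ∃ b : E, ψ b = algebraMap F (Matrix (Fin n) (Fin n) F) c := fun c =>
    D.mem _ (Algebra.commutes c z)
  choose f hf using h2
  exact ⟨{ toFun := f
           map_one' := D.inj (by rw [hf, map_one, map_one])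
           map_zero' := D.inj (by rw [hf, map_zero, map_zero])
           map_add' := fun a b => D.inj (by rw [hf, map_add, map_add, hf, hf])
           map_mul' := fun a b => D.inj (by rw [hf, map_mul, map_mul, hf, hf]) }, fun c => hf c⟩

/-- the order of the induced automorphism -/
theorem FZ.orderOf_tau (D : FZ z ψ) (hn : 0 < n) {τ : RingAut E} {σ : RingAut F} {ι : F →+* E}
    (hι : ∀ c, ψ (ι c) = algebraMap F (Matrix (Fin n) (Fin n) F) c) (hσ : ∀ c, τ (ι c) = ι (σ c)) {a₀ : E}
    (ha : ψ a₀ = z) (hτ : τ a₀ = a₀) : orderOf τ = orderOf σ := by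
  have h1 : ∀ (m : ℕ) (c : F), (τ ^ m) (ι c) = ι ((σ ^ m) c) := by
    intro m
    induction m with
    | zero => intro c; rfl
    | succ m ih =>
      intro c
      rw [pow_succ, pow_succ]
      show (τ ^ m) (τ (ι c)) = ι ((σ ^ m) (σ c))
      rw [hσ, ih]
  have h2 : ∀ m : ℕ, (τ ^ m) a₀ = a₀ := by
    intro m
    induction m with
    | zero => rfl
    | succ m ih =>
      rw [pow_succ]
      show (τ ^ m) (τ a₀) = a₀
      rw [hτ, ih]
  refine Nat.dvd_antisymm (orderOf_dvd_of_pow_eq_one ?_) (orderOf_dvd_of_pow_eq_one ?_)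
  · refine RingEquiv.ext fun a => ?_
    show (τ ^ orderOf σ) a = a
    have h3 : ∀ x ∈ Algebra.adjoin F {z}, ∃ a, ψ a = x ∧ (τ ^ orderOf σ) a = a := by
      intro x hx
      induction hx using Algebra.adjoin_induction with
      | mem y hy =>
        rw [Set.mem_singleton_iff] at hy
        exact ⟨a₀, by rw [ha, hy], h2 _⟩
      | algebraMap c =>
        refine ⟨ι c, hι c, ?_⟩
        rw [h1, pow_orderOf_eq_one]
        rfl
      | add x y _ _ hx hy =>
        obtain ⟨a, rfl, h3⟩ := hx
        obtain ⟨b, rfl, h4⟩ := hy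
        exact ⟨a + b, map_add _ _ _, by rw [map_add, h3, h4]⟩
      | mul x y _ _ hx hy =>
        obtain ⟨a, rfl, h3⟩ := hx
        obtain ⟨b, rfl, h4⟩ := hy
        exact ⟨a * b, map_mul _ _ _, by rw [map_mul, h3, h4]⟩
    obtain ⟨b, h4, h5⟩ := h3 _ (D.irr.mem_adjoin hn (D.comm a))
    rw [← D.inj h4]
    exact h5
  · refine RingEquiv.ext fun c => ?_
    show (σ ^ orderOf τ) c = c
    apply ι.injective
    rw [← h1, pow_orderOf_eq_one]
    rfl

/-- an automorphism of odd order does not invert an element of odd order -/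
theorem false_of_inv {τ : RingAut E} (hτ : Odd (orderOf τ)) {a : E} {t : ℕ} (ht : Odd t) (ha : a ^ t = 1) (ha1 : a ≠ 1)
    (h : τ a = a⁻¹) : False := by
  have h1 : ∀ m : ℕ, (τ ^ (2 * m)) a = a := by
    intro m
    induction m with
    | zero => rfl
    | succ m ih =>
      have e : 2 * (m + 1) = 2 * m + 1 + 1 := by ring
      rw [e, pow_succ, pow_succ]
      show (τ ^ (2 * m)) (τ (τ a)) = a
      rw [h, map_inv₀, h, inv_inv, ih]
  obtain ⟨k, hk⟩ := hτ
  have h2 : (τ ^ (2 * k + 1)) a = a := by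
    rw [← hk, pow_orderOf_eq_one]
    rfl
  have h3 : τ a = a := by
    rw [pow_succ'] at h2
    have h4 : τ ((τ ^ (2 * k)) a) = a := h2
    rwa [h1] at h4
  rw [h3] at h
  have ha0 : a ≠ 0 := by
    rintro rfl
    obtain ⟨j, rfl⟩ := ht
    rw [pow_succ, mul_zero] at ha
    exact zero_ne_one ha
  have h4 : a ^ 2 = 1 := by
    rw [pow_two]
    nth_rewrite 2 [h]
    exact mul_inv_cancel₀ ha0
  obtain ⟨j, rfl⟩ := ht
  rw [pow_succ, pow_mul, h4, one_pow, one_mul] at ha
  exact ha1 ha

/-- an element of a field extension of prime degree which is not a scalar generates it -/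
theorem FZ.comm_of (D : FZ z ψ) (hn : n.Prime) {g x : Matrix (Fin n) (Fin n) F} (hg : g * z = z * g)
    (hs : ∀ c : F, g ≠ algebraMap F (Matrix (Fin n) (Fin n) F) c) (hx : x * g = g * x) : x * z = z * x := by
  obtain ⟨ι, hι⟩ := D.exists_iota
  obtain ⟨b, hb⟩ := D.mem g hg
  obtain ⟨a₀, ha₀⟩ := D.mem z rfl
  let _ : Algebra F E := ι.toAlgebra
  have hfr : Module.finrank F E = n := by
    have h1 := Module.natCard_eq_pow_finrank (K := F) (V := E)
    rw [D.card, Nat.card_eq_fintype_card] at h1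
    exact (Nat.pow_right_injective (Fintype.one_lt_card (α := F)) h1).symm
  have hfd : FiniteDimensional F E := Module.finite_of_finrank_pos (by rw [hfr]; exact hn.pos)
  have h1 : Module.finrank F (IntermediateField.adjoin F {b}) ∣ n := by
    rw [← hfr]
    exact ⟨_, (Module.finrank_mul_finrank F (IntermediateField.adjoin F {b}) E).symm⟩
  have h2 : IntermediateField.adjoin F {b} = ⊤ := by
    rcases (Nat.dvd_prime hn).1 h1 with h3 | h3
    · exfalso
      rw [IntermediateField.finrank_eq_one_iff] at h3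
      have h4 : b ∈ IntermediateField.adjoin F {b} := IntermediateField.mem_adjoin_simple_self F b
      rw [h3, IntermediateField.mem_bot] at h4
      obtain ⟨c, hc⟩ := h4
      apply hs c
      rw [← hb, ← hc]
      exact hι c
    · apply IntermediateField.eq_of_le_of_finrank_eq le_top
      rw [h3, IntermediateField.finrank_top', hfr]
  have h3 : a₀ ∈ Algebra.adjoin F {b} := by
    rw [← IntermediateField.adjoin_simple_toSubalgebra_of_isAlgebraic (Algebra.IsAlgebraic.isAlgebraic b), h2]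
    exact trivial
  have h4 : ∀ a ∈ Algebra.adjoin F {b}, x * ψ a = ψ a * x := by
    intro a ha
    induction ha using Algebra.adjoin_induction with
    | mem y hy => rw [Set.mem_singleton_iff] at hy; rw [hy, hb, hx]
    | algebraMap c =>
      have h5 : ψ (algebraMap F E c) = algebraMap F (Matrix (Fin n) (Fin n) F) c := hι c
      rw [h5]
      exact (Algebra.commutes c x).symm
    | add a b _ _ ha hb => rw [map_add, mul_add, add_mul, ha, hb]
    | mul a b _ _ ha hb => rw [map_mul, ← mul_assoc, ha, mul_assoc, hb, mul_assoc]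
  rw [← ha₀]
  exact h4 _ h3

/-- orders of subgroups -/
theorem FZ.card_dvd (D : FZ z ψ) (E₀ : Subfield E) (R : Subgroup (GL (Fin n) F))
    (hR : ∀ x ∈ R, ∃ a ∈ E₀, ψ a = (x : Matrix (Fin n) (Fin n) F)) : Nat.card R ∣ Nat.card E₀ - 1 := by
  have := Fintype.ofFinite E₀
  let φ : E₀ˣ →* GL (Fin n) F := Units.map ((ψ.comp E₀.subtype : E₀ →+* Matrix (Fin n) (Fin n) F) : E₀ →* _)
  have hφ : Function.Injective φ := Units.map_injective (fun a b h => Subtype.ext (D.inj h))
  have h1 : R ≤ φ.range := by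
    intro x hx
    obtain ⟨a, ha, h2⟩ := hR x hx
    have ha0 : (⟨a, ha⟩ : E₀) ≠ 0 := by
      intro h0
      have h3 : a = 0 := congrArg Subtype.val h0
      rw [h3, map_zero] at h2
      have h4 : a = 0 := h3
      have h5 : (x : Matrix (Fin n) (Fin n) F) = 0 := h2.symm
      have h6 : Nontrivial (Matrix (Fin n) (Fin n) F) := ⟨ψ 0, ψ 1, fun h => zero_ne_one (D.inj h)⟩
      exact x.ne_zero h5
    refine ⟨Units.mk0 _ ha0, Units.ext ?_⟩
    exact h2
  have h2 : Nat.card φ.range = Nat.card E₀ - 1 := by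
    rw [← Nat.card_units E₀]
    exact (Nat.card_congr (MonoidHom.ofInjective hφ).toEquiv).symm
  rw [← h2]
  exact Subgroup.card_dvd_of_le h1

end Mat

end Cfsg.Agent.H159.DPi
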