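import Mathlib

/-!
# S4247 (A'): arithmetic (helper159)
-/

set_option autoImplicit false

namespace Cfsg.Agent.H159.DPi

section ord

variable {n q : ℕ}

theorem dvd_pow_sub_one_iff {t i : ℕ} (hq : 0 < q) : t ∣ q ^ i - 1 ↔ ((q : ZMod t) ^ i = 1) := by
  rw [← CharP.cast_eq_zero_iff (ZMod t) t, Nat.cast_sub (Nat.one_le_pow _ _ hq), Nat.cast_pow, Nat.cast_one, sub_eq_zero]

theorem dvd_pow_sub_one_iff_orderOf {t i : ℕ} (hq : 0 < q) : t ∣ q ^ i - 1 ↔ orderOf (q : ZMod t) ∣ i := by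
  rw [dvd_pow_sub_one_iff hq, orderOf_dvd_iff_pow_eq_one]

theorem odd_f (hn : n.Prime) (hn3 : 3 ≤ n) {r f : ℕ} (ho : orderOf ((r ^ f : ℕ) : ZMod n) = n - 1) : Odd f := by
  have : Fact n.Prime := ⟨hn⟩
  by_contra hf
  rw [Nat.not_odd_iff_even] at hf
  obtain ⟨g, rfl⟩ := hf
  obtain ⟨k, hk⟩ := hn.odd_of_ne_two (by omega)
  have h1 : ((r ^ g : ℕ) : ZMod n) ≠ 0 := by
    intro h0
    have h2 : ((r ^ (g + g) : ℕ) : ZMod n) = 0 := by
      rw [pow_add, Nat.cast_mul, h0, zero_mul]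
    rw [h2, orderOf_zero] at ho
    omega
  have h2 : ((r ^ g : ℕ) : ZMod n) ^ (n - 1) = 1 := ZMod.pow_card_sub_one_eq_one h1
  have h3 : ((r ^ (g + g) : ℕ) : ZMod n) ^ k = 1 := by
    have e : n - 1 = 2 * k := by omega
    rw [e] at h2
    rw [pow_add, Nat.cast_mul, mul_pow, ← pow_add, ← two_mul, h2]
  have h4 := orderOf_dvd_of_pow_eq_one h3
  rw [ho] at h4
  have := Nat.le_of_dvd (by omega) h4
  omega

theorem not_dvd_sub_one (hn3 : 3 ≤ n) (hq : 0 < q) (ho : orderOf (q : ZMod n) = n - 1) : ¬ n ∣ q - 1 := by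
  intro h
  have h1 : n ∣ q ^ 1 - 1 := by rwa [pow_one]
  rw [dvd_pow_sub_one_iff_orderOf hq, ho, Nat.dvd_one] at h1
  omega

theorem not_dvd_pow_sub_one {t : ℕ} (hq : 0 < q) (ho : orderOf (q : ZMod t) = n) (i : ℕ) (h0 : 0 < i) (hi : i < n) :
    ¬ t ∣ q ^ i - 1 := by
  rw [dvd_pow_sub_one_iff_orderOf hq, ho]
  intro h
  have := Nat.le_of_dvd h0 h
  omega

theorem not_dvd_N (hn : n.Prime) (hn3 : 3 ≤ n) (hq : 2 ≤ q) (ho : orderOf (q : ZMod n) = n - 1) :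
    ¬ n ∣ (q ^ n - 1) / (q - 1) := by
  have : Fact n.Prime := ⟨hn⟩
  intro h
  have h1 : (q - 1) ∣ q ^ n - 1 := by simpa using Nat.sub_dvd_pow_sub_pow q 1 n
  have h2 : n ∣ q ^ n - 1 := h.trans (Nat.div_dvd_of_dvd h1)
  rw [dvd_pow_sub_one_iff (by omega), ZMod.pow_card] at h2
  have h3 : n ∣ q ^ 1 - 1 := by
    rw [dvd_pow_sub_one_iff (by omega), pow_one]
    exact h2
  rw [pow_one] at h3
  exact not_dvd_sub_one hn3 (by omega) ho h3

end ord

/-- geometric sums -/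
theorem geom_eq {q n : ℕ} (hq : 2 ≤ q) : (q ^ n - 1) / (q - 1) = ∑ i ∈ Finset.range n, q ^ i :=
  (Nat.geomSum_eq hq n).symm

theorem geom_ge {q n : ℕ} (hq : 2 ≤ q) (hn : 3 ≤ n) :
    q ^ (n - 1) + q ^ (n - 2) + q ^ (n - 3) ≤ (q ^ n - 1) / (q - 1) := by
  rw [geom_eq hq]
  obtain ⟨m, rfl⟩ : ∃ m, n = m + 3 := ⟨n - 3, by omega⟩
  rw [Finset.sum_range_succ, Finset.sum_range_succ, Finset.sum_range_succ]
  have e1 : m + 3 - 1 = m + 2 := by omega
  have e2 : m + 3 - 2 = m + 1 := by omega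
  have e3 : m + 3 - 3 = m := by omega
  rw [e1, e2, e3]
  have := Nat.zero_le (∑ i ∈ Finset.range m, q ^ i)
  omega

theorem geom_lt {q n : ℕ} (hq : 2 ≤ q) (hn : 0 < n) : (q ^ n - 1) / (q - 1) < 2 * q ^ (n - 1) := by
  have h1 : (q ^ n - 1) < 2 * q ^ (n - 1) * (q - 1) := by
    obtain ⟨m, rfl⟩ : ∃ m, n = m + 1 := ⟨n - 1, by omega⟩
    obtain ⟨c, rfl⟩ : ∃ c, q = c + 2 := ⟨q - 2, by omega⟩
    rw [pow_succ, Nat.add_sub_cancel]
    have e : c + 2 - 1 = c + 1 := by omega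
    rw [e]
    have h0 : 0 < (c + 2) ^ m := by positivity
    have h1 : 0 < (c + 2) ^ m * (c + 2) := by positivity
    have : (c + 2) ^ m * (c + 2) ≤ 2 * (c + 2) ^ m * (c + 1) := by nlinarith
    omega
  exact Nat.div_lt_of_lt_mul (by rwa [mul_comm])

theorem three_mul_le {f : ℕ} (hf : 3 ≤ f) : 3 * f ≤ 2 ^ f + 1 := by
  induction f, hf using Nat.le_induction with
  | base => norm_num
  | succ f hf ih =>
    rw [pow_succ]
    have : 3 ≤ 2 ^ f := by
      calc 3 ≤ 2 ^ 3 := by norm_num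
        _ ≤ 2 ^ f := Nat.pow_le_pow_right (by norm_num) hf
    omega

/-- `(n f)^3 ≤ 2^(f (2 n - 3))` for `n ≥ 5`, `f ≥ 3` -/
theorem cube_le {n f : ℕ} (hn : 5 ≤ n) (hf : 3 ≤ f) : (n * f) ^ 3 ≤ 2 ^ (f * (2 * n - 3)) := by
  have h1 : ∀ m : ℕ, 1 ≤ m → m ≤ 2 ^ (m - 1) := by
    intro m hm
    have := Nat.lt_two_pow_self (n := m - 1)
    omega
  have h2 : n * f ≤ 2 ^ ((n - 1) + (f - 1)) := by
    rw [pow_add]
    exact Nat.mul_le_mul (h1 n (by omega)) (h1 f (by omega))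
  calc (n * f) ^ 3 ≤ (2 ^ ((n - 1) + (f - 1))) ^ 3 := Nat.pow_le_pow_left h2 3
    _ = 2 ^ (((n - 1) + (f - 1)) * 3) := (pow_mul _ _ _).symm
    _ ≤ 2 ^ (f * (2 * n - 3)) := by
      apply Nat.pow_le_pow_right (by norm_num)
      obtain ⟨a, rfl⟩ : ∃ a, n = a + 5 := ⟨n - 5, by omega⟩
      obtain ⟨b, rfl⟩ : ∃ b, f = b + 3 := ⟨f - 3, by omega⟩
      have e1 : 2 * (a + 5) - 3 = 2 * a + 7 := by omega
      have e2 : a + 5 - 1 = a + 4 := by omega
      have e3 : b + 3 - 1 = b + 2 := by omega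
      rw [e1, e2, e3]
      nlinarith

/-- the inequality for `K ≠ 1` -/
theorem num_K {n f q Q : ℕ} (hn : 3 ≤ n) (hn4 : n ≠ 4) (hf : 3 ≤ f) (hq : 2 ^ f ≤ q) (hQ : Q ^ 3 ≤ q ^ n) :
    n * (Q - 1) * f < (q ^ n - 1) / (q - 1) := by
  have hq8 : 8 ≤ q := by
    have : 2 ^ 3 ≤ 2 ^ f := Nat.pow_le_pow_right (by norm_num) hf
    omega
  refine lt_of_lt_of_le ?_ (geom_ge (by omega) hn)
  rcases Nat.eq_or_lt_of_le hn with rfl | hn
  · -- `n = 3`
    have h1 : Q ≤ q := by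
      by_contra h
      push Not at h
      exact absurd hQ (not_le.2 (Nat.pow_lt_pow_left h (by norm_num)))
    have h2 := three_mul_le hf
    have h3 : 3 * f ≤ q + 1 := by omega
    have h4 : 3 * (Q - 1) * f ≤ (q - 1) * (q + 1) := by
      calc 3 * (Q - 1) * f = (Q - 1) * (3 * f) := by ring
        _ ≤ (q - 1) * (q + 1) := Nat.mul_le_mul (by omega) h3
    obtain ⟨c, rfl⟩ : ∃ c, q = c + 1 := ⟨q - 1, by omega⟩
    rw [Nat.add_sub_cancel] at h4
    norm_num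
    nlinarith
  · have hn5 : 5 ≤ n := by omega
    have h1 : n * Q * f ≤ q ^ (n - 1) := by
      by_contra h
      push Not at h
      have h2 : (q ^ (n - 1)) ^ 3 < (n * Q * f) ^ 3 := Nat.pow_lt_pow_left h (by norm_num)
      have h3 : (n * Q * f) ^ 3 ≤ (n * f) ^ 3 * q ^ n := by
        calc (n * Q * f) ^ 3 = (n * f) ^ 3 * Q ^ 3 := by ring
          _ ≤ _ := Nat.mul_le_mul_left _ hQ
      have h4 : (n * f) ^ 3 ≤ q ^ (2 * n - 3) := by
        calc (n * f) ^ 3 ≤ 2 ^ (f * (2 * n - 3)) := cube_le hn5 hf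
          _ = (2 ^ f) ^ (2 * n - 3) := pow_mul _ _ _
          _ ≤ _ := Nat.pow_le_pow_left hq _
      have h5 : (q ^ (n - 1)) ^ 3 = q ^ (2 * n - 3) * q ^ n := by
        rw [← pow_mul, ← pow_add]
        congr 1
        omega
      have h6 := Nat.mul_le_mul_right (q ^ n) h4
      omega
    have h2 : n * (Q - 1) * f ≤ n * Q * f := by
      apply Nat.mul_le_mul_right
      apply Nat.mul_le_mul_left
      omega
    have h3 : 0 < q ^ (n - 2) := by positivity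
    omega

/-- subspaces of dimension `2 ≤ k ≤ n - 2` -/
theorem num_k {n q k : ℕ} (hn : n.Prime) (hq : 2 ≤ q) (hk : 2 ≤ k) (hkn : k + 2 ≤ n)
    (h : q ^ (k * (n - k)) ≤ n * ((q ^ n - 1) / (q - 1))) : n = 5 ∧ q = 2 := by
  have hn5 : 5 ≤ n := by
    have : n ≠ 4 := by rintro rfl; exact absurd hn (by norm_num)
    omega
  have h1 : 2 * (n - 2) ≤ k * (n - k) := by
    obtain ⟨a, rfl⟩ : ∃ a, k = a + 2 := ⟨k - 2, by omega⟩
    obtain ⟨b, rfl⟩ : ∃ b, n = a + 2 + 2 + b := ⟨n - (a + 2 + 2), by omega⟩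
    have e1 : a + 2 + 2 + b - 2 = a + b + 2 := by omega
    have e2 : a + 2 + 2 + b - (a + 2) = b + 2 := by omega
    rw [e1, e2]
    nlinarith
  have h2 : q ^ (2 * (n - 2)) ≤ n * ((q ^ n - 1) / (q - 1)) := (Nat.pow_le_pow_right (by omega) h1).trans h
  have h3 := geom_lt (n := n) hq (by omega)
  rcases Nat.eq_or_lt_of_le hn5 with rfl | hn6
  · refine ⟨rfl, ?_⟩
    by_contra hq2
    have hq3 : 3 ≤ q := by omega
    rw [geom_eq hq] at h2
    simp only [Finset.sum_range_succ, Finset.sum_range_zero] at h2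
    norm_num at h2
    obtain ⟨c, rfl⟩ : ∃ c, q = c + 3 := ⟨q - 3, by omega⟩
    ring_nf at h2
    nlinarith [Nat.zero_le (c ^ 2), Nat.zero_le (c ^ 3), Nat.zero_le (c ^ 4), Nat.zero_le (c ^ 5), Nat.zero_le (c ^ 6)]
  · exfalso
    have hn7 : 7 ≤ n := by
      have : n ≠ 6 := by rintro rfl; exact absurd hn (by norm_num)
      omega
    have h4 : q ^ (2 * (n - 2)) < n * (2 * q ^ (n - 1)) :=
      h2.trans_lt ((Nat.mul_lt_mul_left (by omega)).2 h3)
    have h5 : q ^ (2 * (n - 2)) = q ^ (n - 3) * q ^ (n - 1) := by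
      rw [← pow_add]
      congr 1
      omega
    rw [h5, ← mul_assoc, mul_comm n 2] at h4
    have h6 : q ^ (n - 3) < 2 * n := lt_of_mul_lt_mul_right h4 (Nat.zero_le _)
    have h7 : 2 ^ (n - 3) < 2 * n := (Nat.pow_le_pow_left hq _).trans_lt h6
    obtain ⟨m, rfl⟩ : ∃ m, n = m + 7 := ⟨n - 7, by omega⟩
    have h8 : ∀ m : ℕ, 2 * (m + 7) ≤ 2 ^ (m + 4) := by
      intro m
      induction m with
      | zero => norm_num
      | succ m ih =>
        rw [show m + 1 + 4 = (m + 4) + 1 by ring, pow_succ]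
        omega
    have h9 := h8 m
    rw [show m + 7 - 3 = m + 4 by omega] at h7
    omega

/-- prime powers dividing factorials -/
theorem num_fact {m r f : ℕ} (hr : r.Prime) (hf : 0 < f) (hm : 2 ≤ m) (hm3 : m ≠ 3)
    (h : (r ^ f) ^ (m * (m - 1) / 2) ∣ (m + 1).factorial) : m = 2 ∧ (r ^ f = 2 ∨ r ^ f = 3) := by
  have : Fact r.Prime := ⟨hr⟩
  rcases Nat.eq_or_lt_of_le hm with rfl | hm
  · refine ⟨rfl, ?_⟩
    have e : 2 * (2 - 1) / 2 = 1 := by norm_num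
    rw [e, pow_one] at h
    have h1 : (2 + 1).factorial = 6 := by decide
    rw [h1] at h
    have h2 : r ^ f ∈ Nat.divisors 6 := Nat.mem_divisors.2 ⟨h, by norm_num⟩
    have h3 : Nat.divisors 6 = {1, 2, 3, 6} := by decide +kernel
    rw [h3] at h2
    simp only [Finset.mem_insert, Finset.mem_singleton] at h2
    rcases h2 with h2 | h2 | h2 | h2
    · exact absurd h2 (Nat.one_lt_pow hf.ne' hr.one_lt).ne'
    · exact Or.inl h2
    · exact Or.inr h2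
    · exfalso
      have h4 : 2 ∣ r ^ f := by rw [h2]; norm_num
      have h5 : 3 ∣ r ^ f := by rw [h2]; norm_num
      have h6 := (Nat.prime_dvd_prime_iff_eq Nat.prime_two hr).1 (Nat.prime_two.dvd_of_dvd_pow h4)
      have h7 := (Nat.prime_dvd_prime_iff_eq Nat.prime_three hr).1 (Nat.prime_three.dvd_of_dvd_pow h5)
      omega
  · exfalso
    rw [← pow_mul] at h
    have h1 := (padicValNat_dvd_iff_le (p := r) (Nat.factorial_ne_zero (m + 1))).1 h
    have h2 : padicValNat r (m + 1).factorial < m + 1 := padicValNat_factorial_lt_of_ne_zero r (by omega)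
    have h3 : m * 3 / 2 ≤ m * (m - 1) / 2 := Nat.div_le_div_right (Nat.mul_le_mul_left _ (by omega))
    have h4 : m * (m - 1) / 2 ≤ f * (m * (m - 1) / 2) := Nat.le_mul_of_pos_left _ hf
    omega

end Cfsg.Agent.H159.DPi
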