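import Cfsg.Agent.H262.Rx.RedSL
import Cfsg.Agent.H321.Dl.PslMany
import Cfsg.Agent.H900.PQR.Emb
import Cfsg.Agent.H277.ClsPsl
import Cfsg.Agent.SmallSimple.SylowCount
import Cfsg.Agent.H898.PDLin
import Cfsg.Agent.H159.DPi.Num
import Cfsg.Agent.S0249

/-!
# S4247 (A'): `SL_n(F)` on the subspaces (helper159)
-/

set_option autoImplicit false
set_option linter.unusedSectionVars false

namespace Cfsg.Agent.H159.DPi

open Module Matrix Cfsg Cfsg.Agent.H141.Rg Cfsg.Agent.H262.Rx

variable {F : Type} [Field F] [Fintype F] {n : ℕ}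

/-- `SL_n(F)` on the subspaces -/
@[reducible] noncomputable def actS (n : ℕ) (F : Type) [Field F] :
    MulAction (Matrix.SpecialLinearGroup (Fin n) F) (Submodule F (Fin n → F)) where
  smul g W := W.map (slAct n F g)
  one_smul W := by
    show W.map (slAct n F 1) = W
    rw [map_one]
    exact Submodule.map_id W
  mul_smul g h W := by
    show W.map (slAct n F (g * h)) = (W.map (slAct n F h)).map (slAct n F g)
    rw [map_mul]
    exact Submodule.map_comp _ _ W

/-- the stabiliser of a subspace -/
noncomputable def stb (W : Submodule F (Fin n → F)) : Subgroup (Matrix.SpecialLinearGroup (Fin n) F) :=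
  @MulAction.stabilizer _ _ _ (actS n F) W

theorem mem_stb {W : Submodule F (Fin n → F)} {g : Matrix.SpecialLinearGroup (Fin n) F} :
    g ∈ stb W ↔ W.map (slAct n F g) = W := Iff.rfl

theorem slAct_inj (g : Matrix.SpecialLinearGroup (Fin n) F) : Function.Injective (slAct n F g) := by
  intro u v h
  have h1 : slAct n F g⁻¹ (slAct n F g u) = slAct n F g⁻¹ (slAct n F g v) := by rw [h]
  have h2 : ∀ w, slAct n F g⁻¹ (slAct n F g w) = w := by
    intro w
    have h3 : (slAct n F g⁻¹ * slAct n F g) w = w := by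
      rw [← map_mul, inv_mul_cancel, map_one]
      rfl
    exact h3
  rwa [h2, h2] at h1

theorem finrank_map_slAct (g : Matrix.SpecialLinearGroup (Fin n) F) (W : Submodule F (Fin n → F)) :
    finrank F (W.map (slAct n F g)) = finrank F W :=
  (Submodule.equivMapOfInjective _ (slAct_inj g) W).finrank_eq.symm

theorem exists_map {W W' : Submodule F (Fin n → F)} (h : finrank F W = finrank F W') (h0 : 0 < finrank F W) :
    ∃ g : Matrix.SpecialLinearGroup (Fin n) F, W.map (slAct n F g) = W' := by
  obtain ⟨g, hg⟩ := exists_sl_sub h h0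
  obtain ⟨y, hy⟩ := exists_mat n F g
  refine ⟨y, ?_⟩
  have e1 : slAct n F y = (g.1 : (Fin n → F) →ₗ[F] (Fin n → F)) := LinearMap.ext hy
  rw [e1, hg]

theorem index_stb {W : Submodule F (Fin n → F)} (h0 : 0 < finrank F W) :
    (stb W).index = Nat.card {W' : Submodule F (Fin n → F) // finrank F W' = finrank F W} := by
  let _ := actS n F
  have h1 : (stb W).index = (MulAction.orbit (Matrix.SpecialLinearGroup (Fin n) F) W).ncard :=
    MulAction.index_stabilizer _ W
  rw [h1, ← Nat.card_coe_set_eq]
  have h2 : MulAction.orbit (Matrix.SpecialLinearGroup (Fin n) F) W =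
      {W' : Submodule F (Fin n → F) | finrank F W' = finrank F W} := by
    ext W'
    constructor
    · rintro ⟨g, rfl⟩
      exact finrank_map_slAct g W
    · intro h
      obtain ⟨g, hg⟩ := exists_map (W := W) (W' := W') h.symm h0
      exact ⟨g, hg⟩
  rw [h2]
  rfl

/-- the number of subspaces, lower bound -/
theorem card_ge {k : ℕ} (hk : k ≤ n) :
    Fintype.card F ^ (k * (n - k)) ≤ Nat.card {W : Submodule F (Fin n → F) // finrank F W = k} := by
  have hq : 1 < Fintype.card F := Fintype.one_lt_card
  have h1 := H321.Dl.PslMany.card_mul (F := F) hk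
  have h2 : ∀ j ≤ k, Fintype.card F ^ (j * (n - k)) * H321.Dl.PslMany.fac (Fintype.card F) j *
      H321.Dl.PslMany.fac (Fintype.card F) (n - k) ≤ H321.Dl.PslMany.fac (Fintype.card F) (n - k + j) := by
    intro j
    induction j with
    | zero =>
      intro _
      have : H321.Dl.PslMany.fac (Fintype.card F) 0 = 1 := rfl
      rw [this, zero_mul, pow_zero, one_mul, one_mul, add_zero]
    | succ j ih =>
      intro hj
      have h3 := ih (by omega)
      rw [← add_assoc, H321.Dl.PslMany.fac_succ, H321.Dl.PslMany.fac_succ]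
      have h4 : Fintype.card F ^ (n - k) * (Fintype.card F ^ (j + 1) - 1) ≤ Fintype.card F ^ (n - k + j + 1) - 1 := by
        rw [Nat.mul_sub, ← pow_add, mul_one, ← add_assoc]
        have : 1 ≤ Fintype.card F ^ (n - k) := Nat.one_le_pow _ _ (by omega)
        omega
      calc Fintype.card F ^ ((j + 1) * (n - k)) * (H321.Dl.PslMany.fac (Fintype.card F) j *
          (Fintype.card F ^ (j + 1) - 1)) * H321.Dl.PslMany.fac (Fintype.card F) (n - k)
          = (Fintype.card F ^ (j * (n - k)) * H321.Dl.PslMany.fac (Fintype.card F) j *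
            H321.Dl.PslMany.fac (Fintype.card F) (n - k)) *
            (Fintype.card F ^ (n - k) * (Fintype.card F ^ (j + 1) - 1)) := by
              rw [add_mul, one_mul, pow_add]; ring
        _ ≤ _ := Nat.mul_le_mul h3 h4
  have h3 := h2 k le_rfl
  rw [Nat.sub_add_cancel hk, ← h1] at h3
  have h4 : 0 < H321.Dl.PslMany.fac (Fintype.card F) k * H321.Dl.PslMany.fac (Fintype.card F) (n - k) :=
    Nat.mul_pos (H321.Dl.PslMany.fac_pos hq _) (H321.Dl.PslMany.fac_pos hq _)
  rw [mul_assoc, mul_assoc] at h3
  exact Nat.le_of_mul_le_mul_right h3 h4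

/-- the points and the hyperplanes -/
theorem card_one {k : ℕ} (hn : 1 ≤ n) (hk : k = 1 ∨ k = n - 1) :
    Nat.card {W : Submodule F (Fin n → F) // finrank F W = k} = (Fintype.card F ^ n - 1) / (Fintype.card F - 1) := by
  have hq : 1 < Fintype.card F := Fintype.one_lt_card
  have hk' : k ≤ n := by omega
  have h1 := H321.Dl.PslMany.card_mul (F := F) hk'
  have h2 : H321.Dl.PslMany.fac (Fintype.card F) k * H321.Dl.PslMany.fac (Fintype.card F) (n - k) =
      (Fintype.card F - 1) * H321.Dl.PslMany.fac (Fintype.card F) (n - 1) := by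
    have e1 : H321.Dl.PslMany.fac (Fintype.card F) 1 = Fintype.card F - 1 := by
      rw [H321.Dl.PslMany.fac, Finset.prod_range_one, zero_add, pow_one]
    rcases hk with rfl | rfl
    · rw [e1]
    · rw [show n - (n - 1) = 1 by omega, e1, mul_comm]
  rw [mul_assoc, h2] at h1
  obtain ⟨m, rfl⟩ : ∃ m, n = m + 1 := ⟨n - 1, by omega⟩
  rw [H321.Dl.PslMany.fac_succ, Nat.add_sub_cancel] at h1
  have h3 : Nat.card {W : Submodule F (Fin (m + 1) → F) // finrank F W = k} * (Fintype.card F - 1) =
      Fintype.card F ^ (m + 1) - 1 := by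
    apply Nat.eq_of_mul_eq_mul_left (H321.Dl.PslMany.fac_pos hq m)
    rw [← h1]
    ring
  rw [← h3, Nat.mul_div_cancel _ (by omega)]

end Cfsg.Agent.H159.DPi
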