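import Cfsg.Agent.H159.DPi.Core3
import Cfsg.Agent.SporadicA.FieldFour

/-!
# S4247, case (A') of section 2L : `PSL_n(q)`, `n ∈ π` an odd prime, `ord_n(q) = n - 1` (helper159)

`la_prime` : `Cfg π P K B` implies `LX π S` (in fact `S = PSL_3(2)` or `PSL_5(2)`).
-/

set_option autoImplicit false
set_option linter.unusedSectionVars false

namespace Cfsg.Agent.H159.DPi

open Module Matrix Cfsg Cfsg.Agent.H817.DPi

universe u

/-- the `n`-part of `|PSL_n(q)|` -/
theorem not_sq_dvd_psl {F : Type} [Field F] [Fintype F] {p n : ℕ} [CharP F p] (hp : p.Prime) (hpn : p ≠ n)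
    (hn : n.Prime) (hn3 : 3 ≤ n) (ho : orderOf ((Fintype.card F : ℕ) : ZMod n) = n - 1)
    (hs : ¬ n ^ 2 ∣ Fintype.card F ^ (n - 1) - 1) : ¬ n ^ 2 ∣ Nat.card (ProjectiveSpecialLinearGroup (Fin n) F) := by
  intro h
  have hq : 0 < Fintype.card F := Fintype.card_pos
  have h1 := H277.ClsPsl.card_psl (F := F) rfl (show 2 ≤ n by omega)
  have h2 : n ^ 2 ∣ Fintype.card F ^ (n * (n - 1) / 2) * ∏ i ∈ Finset.range (n - 1), (Fintype.card F ^ (i + 2) - 1) := by
    rw [← h1]
    exact h.mul_left _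
  have hnq : Nat.Coprime (n ^ 2) (Fintype.card F ^ (n * (n - 1) / 2)) := by
    obtain ⟨f, -, hf⟩ := FiniteField.card F p
    rw [hf]
    exact Nat.Coprime.pow _ _ (Nat.Coprime.pow_right _ ((Nat.coprime_primes hn hp).2 hpn.symm))
  have h3 := hnq.dvd_of_dvd_mul_left h2
  have hcop : ∀ j, ¬ (n - 1) ∣ j → Nat.Coprime (n ^ 2) (Fintype.card F ^ j - 1) := by
    intro j hj
    apply Nat.Coprime.pow_left
    rw [Nat.Prime.coprime_iff_not_dvd hn, dvd_pow_sub_one_iff_orderOf hq, ho]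
    exact hj
  obtain ⟨m, rfl⟩ : ∃ m, n = m + 3 := ⟨n - 3, by omega⟩
  rw [show m + 3 - 1 = m + 1 + 1 by omega, Finset.prod_range_succ, Finset.prod_range_succ] at h3
  have h4 := (hcop (m + 1 + 2) (by
    intro hd
    have h5 : m + 3 - 1 ∣ m + 1 + 2 - (m + 3 - 1) := Nat.dvd_sub hd dvd_rfl
    have h6 := Nat.le_of_dvd (by omega) h5
    omega)).dvd_of_dvd_mul_right h3
  have h5 : Nat.Coprime ((m + 3) ^ 2) (∏ i ∈ Finset.range m, (Fintype.card F ^ (i + 2) - 1)) := by
    apply Nat.Coprime.prod_right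
    intro i hi
    rw [Finset.mem_range] at hi
    refine hcop _ fun hd => ?_
    have h6 := Nat.le_of_dvd (by omega) hd
    omega
  exact hs (h5.dvd_of_dvd_mul_left h4)

/-- **(A')** -/
theorem la_prime {π : Set ℕ} {F : Type} [Field F] [Fintype F] {p n : ℕ} [CharP F p] (hp : p.Prime) (hpπ : p ∉ π)
    {S : Type u} [Group S] [Finite S] [IsSimpleGroup S] (e : S ≃* Matrix.ProjectiveSpecialLinearGroup (Fin n) F)
    (hn : n.Prime) (hn3 : 3 ≤ n) (hnπ : n ∈ π) (ho : orderOf ((Fintype.card F : ℕ) : ZMod n) = n - 1)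
    (hs : ¬ n ^ 2 ∣ Fintype.card F ^ (n - 1) - 1)
    (ht : ∀ t ∈ π, t.Prime → t ∣ Nat.card S → t ≠ n → orderOf ((Fintype.card F : ℕ) : ZMod t) = n)
    {P : Subgroup S} {K B : Subgroup (MulAut S)} (h : Cfg π P K B) : LX π S := by
  have hq : 0 < Fintype.card F := Fintype.card_pos
  have hpn : p ≠ n := fun h0 => hpπ (h0 ▸ hnπ)
  obtain ⟨f, -, hf⟩ := FiniteField.card F p
  have hodd : Odd (f : ℕ) := odd_f hn hn3 (r := p) (by rw [← hf]; exact ho)
  have hcen : Subgroup.center (SpecialLinearGroup (Fin n) F) = ⊥ :=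
    center_eq_bot (by omega) ((Nat.Prime.coprime_iff_not_dvd hn).2 (not_dvd_sub_one hn3 hq ho))
  let e' : S ≃* SpecialLinearGroup (Fin n) F := e.trans (toPSL hcen).symm
  have hc := Cfg.congr e' h
  set P' : Subgroup (SpecialLinearGroup (Fin n) F) := P.map (e' : S →* SpecialLinearGroup (Fin n) F) with hP'
  have hcardS : Nat.card (SpecialLinearGroup (Fin n) F) = Nat.card S := (Nat.card_congr e'.toEquiv).symm
  have hcardS' : Nat.card S = Nat.card (ProjectiveSpecialLinearGroup (Fin n) F) := Nat.card_congr e.toEquiv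
  have hPS : Nat.card P' ∣ Nat.card S := by
    rw [← hcardS]
    exact Subgroup.card_subgroup_dvd_card P'
  have hy : Hy n p f F P' := by
    refine ⟨hn, hn3, hp, inferInstance, hf, hodd, hcen, ?_, ?_, ?_, ?_⟩
    · intro hab
      apply hc.nnil
      let _ : CommGroup P' := { (inferInstance : Group P') with mul_comm := fun x y => Subtype.ext (hab x x.2 y y.2) }
      exact CommGroup.isNilpotent
    · intro t ht1 ht2 ht3
      have htπ := hc.hall.1 t ht1 ht2
      refine ⟨ht1.odd_of_ne_two fun h0 => h.two (h0 ▸ htπ), fun h0 => hpπ (h0 ▸ htπ), ht t htπ ht1 (ht2.trans hPS) ht3⟩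
    · by_contra hcon
      push Not at hcon
      apply hc.nnil
      have := Fact.mk hn
      have h1 : IsPGroup n P' := by
        rw [IsPGroup.iff_card]
        refine ⟨_, Nat.eq_prime_pow_of_unique_prime_dvd Nat.card_pos.ne' fun {d} hd hd' => hcon d hd hd'⟩
      exact h1.isNilpotent
    · intro h1
      exact not_sq_dvd_psl hp hpn hn hn3 ho hs (h1.trans (hcardS' ▸ hPS))
  obtain ⟨h1, h2⟩ := hy.main hc hpπ hnπ ho
  let g : F ≃+* ZMod 2 := (ZMod.ringEquivOfPrime F Nat.prime_two h2).symm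
  rcases h1 with rfl | rfl
  · exact Or.inr (Or.inl ⟨e.trans (SporadicA.FieldFour.pslCongr g)⟩)
  · refine Or.inr (Or.inr (Or.inl ⟨⟨e.trans (SporadicA.FieldFour.pslCongr g)⟩, ?_⟩))
    intro l hl hlp hld
    by_cases hl5 : l = 5
    · exact Or.inl hl5
    · right
      have h3 := ht l hl hlp hld hl5
      have h4 : l ∣ Fintype.card F ^ 5 - 1 := by
        rw [dvd_pow_sub_one_iff_orderOf hq, h3]
      rw [h2] at h4
      exact (Nat.prime_dvd_prime_iff_eq hlp (by norm_num)).1 (by simpa using h4)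

end Cfsg.Agent.H159.DPi
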